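import Cfsg.Agent.FGS.AutFrattini

/-!
A cyclic group acting semiregularly on a symplectic space over `ZMod p` has order dividing
`p ^ n - 1` or `p ^ n + 1`.
-/

set_option autoImplicit false

namespace Cfsg.Agent.SympAct

open Polynomial Module

variable {p : ℕ} [hp : Fact p.Prime] {V : Type*} [AddCommGroup V] [Module (ZMod p) V]
  [FiniteDimensional (ZMod p) V]

/-- A semiregular operator: invariant subspaces have size congruent to one. -/
theorem pow_finrank (T : Module.End (ZMod p) V) {h : ℕ} (hh : 0 < h) (hT : T ^ h = 1)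
    (hfree : ∀ i, 0 < i → i < h → ∀ v, (T ^ i) v = v → v = 0) (W : Submodule (ZMod p) V)
    (hW : ∀ v ∈ W, T v ∈ W) : ((p : ZMod h) ^ finrank (ZMod p) W) = 1 := by
  classical
  haveI : NeZero h := ⟨hh.ne'⟩
  haveI : Finite V := Module.finite_of_finite (ZMod p)
  have hTi : ∀ i, ∀ v ∈ W, (T ^ i) v ∈ W := by
    intro i
    induction i with
    | zero => simp
    | succ i ih => intro v hv; rw [pow_succ', Module.End.mul_apply]; exact hW _ (ih v hv)
  let S := {v : V // v ∈ W ∧ v ≠ 0}
  letI : MulAction (Multiplicative (ZMod h)) S :=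
    { smul := fun a v => ⟨(T ^ (Multiplicative.toAdd a).val) v.1, hTi _ _ v.2.1, fun e => v.2.2 (by
        have h1 := congrArg (T ^ (h - (Multiplicative.toAdd a).val)) e
        rwa [map_zero, ← Module.End.mul_apply, ← pow_add,
          Nat.sub_add_cancel (ZMod.val_lt _).le, hT, Module.End.one_apply] at h1)⟩
      one_smul := fun v => Subtype.ext (by
        show (T ^ (Multiplicative.toAdd (1 : Multiplicative (ZMod h))).val) v.1 = v.1
        rw [toAdd_one, ZMod.val_zero, pow_zero, Module.End.one_apply])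
      mul_smul := fun a b v => Subtype.ext (by
        show (T ^ (Multiplicative.toAdd (a * b)).val) v.1 = _
        change _ = (T ^ (Multiplicative.toAdd a).val) ((T ^ (Multiplicative.toAdd b).val) v.1)
        rw [toAdd_mul, ZMod.val_add, ← Module.End.mul_apply, ← pow_add, ← pow_mod_eq_pow_of h hT]) }
  have hd := FGS.card_dvd_of_free (A := Multiplicative (ZMod h)) (S := S) fun a v hav => by
    by_contra ha
    have hpos : 0 < (Multiplicative.toAdd a).val := Nat.pos_of_ne_zero fun e => ha (by
      rw [ZMod.val_eq_zero] at e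
      exact Multiplicative.toAdd.injective (e.trans toAdd_one.symm))
    exact v.2.2 (hfree _ hpos (ZMod.val_lt _) _ (congrArg Subtype.val hav))
  rw [Nat.card_congr Multiplicative.toAdd, Nat.card_zmod] at hd
  have hS : Nat.card S + 1 = p ^ finrank (ZMod p) W := by
    have e1 : Nat.card W = p ^ finrank (ZMod p) W := by
      rw [Module.natCard_eq_pow_finrank (K := ZMod p), Nat.card_zmod]
    have e2 : Nat.card S = ((W : Set V) \ {0}).ncard :=
      (Nat.card_congr (Equiv.subtypeEquivRight fun v => Iff.rfl)).trans (Nat.card_coe_set_eq _)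
    have e3 : Nat.card W = (W : Set V).ncard := Nat.card_coe_set_eq _
    have e4 : 0 < (W : Set V).ncard := (Set.ncard_pos (Set.toFinite _)).2 ⟨0, W.zero_mem⟩
    rw [← e1, e2, e3, Set.ncard_sdiff_singleton_of_mem W.zero_mem]
    omega
  have h2 : ((Nat.card S + 1 : ℕ) : ZMod h) = 1 := by
    rw [Nat.cast_add, (ZMod.natCast_eq_zero_iff _ _).2 hd, zero_add, Nat.cast_one]
  rwa [hS, Nat.cast_pow] at h2
where
  pow_mod_eq_pow_of {M : Type _} [Monoid M] {x : M} (h : ℕ) (hx : x ^ h = 1) {i : ℕ} :
      x ^ i = x ^ (i % h) := by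
    conv_lhs => rw [← Nat.mod_add_div i h, pow_add, pow_mul, hx, one_pow, mul_one]

/-- Polynomials in an isometry have adjoints. -/
theorem adjoint_aeval (B : LinearMap.BilinForm (ZMod p) V) (T : Module.End (ZMod p) V) {h : ℕ}
    (hh : 0 < h) (hT : T ^ h = 1) (hB : ∀ u v, B (T u) (T v) = B u v) (g : (ZMod p)[X]) (u v : V) :
    B (aeval T g u) v = B u (aeval (T ^ (h - 1)) g v) := by
  have hBi : ∀ i u v, B ((T ^ i) u) ((T ^ i) v) = B u v := by
    intro i
    induction i with
    | zero => simp
    | succ i ih => intro u v; rw [pow_succ, Module.End.mul_apply, Module.End.mul_apply, ih, hB]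
  induction g using Polynomial.induction_on' with
  | add f g hf hg => simp [map_add, LinearMap.add_apply, hf, hg]
  | monomial k a =>
    simp only [aeval_monomial, Module.End.mul_apply, Module.algebraMap_end_apply, map_smul,
      LinearMap.smul_apply]
    congr 1
    rw [← pow_mul]
    conv_lhs => rw [← hBi ((h - 1) * k)]
    rw [← Module.End.mul_apply, ← pow_add, show (h - 1) * k + k = h * k by
      rw [← Nat.succ_mul, Nat.succ_eq_add_one, Nat.sub_add_cancel hh], pow_mul T h k, hT, one_pow,
      Module.End.one_apply]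

/-- A non-degenerate irreducible section forces `-1` to be a power of `p` modulo `h`. -/
theorem exists_pow_eq_neg_one (T : Module.End (ZMod p) V) {h : ℕ} (hh : 0 < h) (hT : T ^ h = 1)
    (hfree : ∀ i, 0 < i → i < h → ∀ v, (T ^ i) v = v → v = 0)
    (B : LinearMap.BilinForm (ZMod p) V) (hB : ∀ u v, B (T u) (T v) = B u v)
    (U W : Submodule (ZMod p) V) (hUW : U < W) (hU : ∀ v ∈ U, T v ∈ U) (hW : ∀ v ∈ W, T v ∈ W)
    (hUperp : ∀ u ∈ U, ∀ w ∈ W, B u w = 0)
    (hmin : ∀ X : Submodule (ZMod p) V, U ≤ X → X ≤ W → (∀ v ∈ X, T v ∈ X) → X = U ∨ X = W)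
    (hrad : ∀ w ∈ W, (∀ u ∈ W, B u w = 0) → w ∈ U) :
    ∃ i : ℕ, (p : ZMod h) ^ i = -1 := by
  classical
  have hpol : ∀ X : Submodule (ZMod p) V, (∀ v ∈ X, T v ∈ X) → ∀ f : (ZMod p)[X],
      ∀ v ∈ X, aeval T f v ∈ X := by
    intro X hX f
    induction f using Polynomial.induction_on with
    | C a => intro v hv; rw [aeval_C, Module.algebraMap_end_apply]; exact X.smul_mem _ hv
    | add f g hf hg => intro v hv; rw [map_add, LinearMap.add_apply]; exact X.add_mem (hf v hv) (hg v hv)
    | monomial n a ih =>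
      intro v hv
      rw [show (C a * Polynomial.X ^ (n + 1) : (ZMod p)[X]) = (C a * Polynomial.X ^ n) * Polynomial.X
        by ring, map_mul, aeval_X, Module.End.mul_apply]
      exact ih _ (hX v hv)
  let Kills : (ZMod p)[X] → Prop := fun g => ∀ w ∈ W, aeval T g w ∈ U
  have hK0 : Kills (X ^ h - 1) := fun w _ => by
    rw [map_sub, map_pow, aeval_X, map_one, hT, sub_self, LinearMap.zero_apply]
    exact U.zero_mem
  have hexd : ∃ d, ∃ g, Kills g ∧ g.Monic ∧ g.natDegree = d :=
    ⟨_, _, hK0, monic_X_pow_sub_C 1 hh.ne', rfl⟩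
  obtain ⟨g, hgK, hgm, hgd⟩ := Nat.find_spec hexd
  have hmin' : ∀ f, Kills f → f.Monic → g.natDegree ≤ f.natDegree := fun f hf hfm =>
    hgd ▸ Nat.find_min' hexd ⟨f, hf, hfm, rfl⟩
  have hdvd : ∀ f, Kills f → g ∣ f := by
    intro f hf
    rw [← modByMonic_eq_zero_iff_dvd hgm]
    by_contra hr
    set r := f %ₘ g with hrdef
    have hrK : Kills r := fun w hw => by
      rw [hrdef, modByMonic_eq_sub_mul_div f g, map_sub, LinearMap.sub_apply, mul_comm, map_mul,
        Module.End.mul_apply]
      exact U.sub_mem (hf w hw) (hpol U hU _ _ (hgK w hw))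
    have hdeg : r.natDegree < g.natDegree := natDegree_lt_natDegree hr (degree_modByMonic_lt f hgm)
    have h1 := hmin' (C r.leadingCoeff⁻¹ * r) (fun w hw => by
      rw [map_mul, aeval_C, Module.End.mul_apply, Module.algebraMap_end_apply]
      exact U.smul_mem _ (hrK w hw)) (monic_C_mul_of_mul_leadingCoeff_eq_one
        (inv_mul_cancel₀ (leadingCoeff_ne_zero.2 hr)))
    rw [natDegree_C_mul (inv_ne_zero (leadingCoeff_ne_zero.2 hr))] at h1
    omega
  have hgne : g.natDegree ≠ 0 := fun e => hUW.not_ge fun w hw => by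
    have := hgK w hw
    rwa [eq_one_of_monic_natDegree_zero hgm e, map_one, Module.End.one_apply] at this
  have hirr : Irreducible g := by
    refine ⟨fun hu => hgne (natDegree_eq_zero_of_isUnit hu), fun a b hab => ?_⟩
    by_contra hcon
    rw [not_or] at hcon
    have hne : a ≠ 0 ∧ b ≠ 0 := mul_ne_zero_iff.1 (hab ▸ hgm.ne_zero)
    have hda : a.natDegree ≠ 0 := fun e => hcon.1 (isUnit_iff_degree_eq_zero.2
      (by rw [degree_eq_natDegree hne.1, e]; rfl))
    have hdb : b.natDegree ≠ 0 := fun e => hcon.2 (isUnit_iff_degree_eq_zero.2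
      (by rw [degree_eq_natDegree hne.2, e]; rfl))
    have hdeg := natDegree_mul hne.1 hne.2
    rw [← hab] at hdeg
    let W1 : Submodule (ZMod p) V := W ⊓ U.comap (aeval T b)
    have hW1 : ∀ v ∈ W1, T v ∈ W1 := fun v hv => ⟨hW v hv.1, by
      show aeval T b (T v) ∈ U
      rw [← Module.End.mul_apply, show aeval T b * T = T * aeval T b by
        simpa [map_mul] using congrArg (aeval T) (mul_comm b X),
        Module.End.mul_apply]
      exact hU _ hv.2⟩
    rcases hmin W1 (fun u hu => ⟨hUW.le hu, hpol U hU b u hu⟩) inf_le_left hW1 with e | e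
    · have haK : Kills a := fun w hw => by
        rw [← e]
        refine ⟨hpol W hW a w hw, ?_⟩
        show aeval T b (aeval T a w) ∈ U
        rw [← Module.End.mul_apply, ← map_mul, mul_comm, ← hab]
        exact hgK w hw
      have h1 := natDegree_le_of_dvd (hdvd a haK) hne.1
      omega
    · have hbK : Kills b := fun w hw => by
        have : w ∈ W1 := e.symm ▸ hw
        exact this.2
      have h1 := natDegree_le_of_dvd (hdvd b hbK) hne.2
      omega
  haveI := Fact.mk hirr
  set K := AdjoinRoot g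
  haveI : Module.Finite (ZMod p) K := hgm.finite_adjoinRoot
  haveI : Finite K := Module.finite_of_finite (ZMod p)
  set r : K := AdjoinRoot.root g
  have hmk : ∀ f : (ZMod p)[X], aeval r f = AdjoinRoot.mk g f := fun f => AdjoinRoot.aeval_eq f
  have hrh : r ^ h = 1 := by
    have := (AdjoinRoot.mk_eq_zero).2 (hdvd _ hK0)
    rwa [map_sub, map_pow, AdjoinRoot.mk_X, map_one, sub_eq_zero] at this
  have hord : orderOf r = h := by
    refine (orderOf_eq_iff hh).2 ⟨hrh, fun i hi hi0 hri => hUW.not_ge fun w hw => ?_⟩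
    have hd : g ∣ X ^ i - 1 := AdjoinRoot.mk_eq_zero.1 (by
      rw [map_sub, map_pow, AdjoinRoot.mk_X, map_one, hri, sub_self])
    let L : W →ₗ[ZMod p] V := ((T ^ i - 1 : Module.End (ZMod p) V)).comp W.subtype
    have hsub : ∀ v ∈ W, (T ^ i - 1 : Module.End (ZMod p) V) v ∈ U := fun v hv => by
      obtain ⟨f, hf⟩ := hd
      have h1 := hpol U hU f _ (hgK v hv)
      rwa [← Module.End.mul_apply, ← map_mul, mul_comm, ← hf, map_sub, map_pow, aeval_X, map_one] at h1
    have hinj : Function.Injective (L.codRestrict U fun v => hsub v v.2) := by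
      refine (injective_iff_map_eq_zero _).2 fun v hv => Subtype.ext ?_
      have h1 : (T ^ i) (v : V) - (v : V) = 0 := congrArg Subtype.val hv
      exact hfree i hi0 hi _ (sub_eq_zero.1 h1)
    exact absurd (LinearMap.finrank_le_finrank_of_injective hinj)
      (not_le.2 (Submodule.finrank_lt_finrank_of_lt hUW))
  have hroot : aeval (r ^ (h - 1)) g = 0 := by
    by_contra hne
    have hnd : ¬ g ∣ g.comp (X ^ (h - 1)) := fun hd => hne (by
      have := aeval_comp (p := g) (q := X ^ (h - 1)) r
      rw [map_pow, aeval_X, hmk, AdjoinRoot.mk_eq_zero.2 hd] at this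
      exact this.symm)
    obtain ⟨a, b, hab⟩ := hirr.coprime_iff_not_dvd.2 hnd
    refine hUW.not_ge fun w hw => ?_
    have h1 := congrArg (fun f => aeval T f w) hab
    simp only [map_add, map_mul, map_one, Module.End.one_apply, LinearMap.add_apply,
      Module.End.mul_apply] at h1
    rw [← h1]
    refine U.add_mem (hpol U hU a _ (hgK w hw)) (hpol U hU b _ ?_)
    refine hrad _ (hpol W hW _ w hw) fun u hu => ?_
    rw [aeval_comp, map_pow, aeval_X, ← adjoint_aeval B T hh hT hB]
    exact hUperp _ (hgK u hu) w hw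
  let ψ : K →ₐ[ZMod p] K := AdjoinRoot.liftAlgHom g (Algebra.ofId (ZMod p) K) (r ^ (h - 1)) hroot
  obtain ⟨i, hi⟩ := (FiniteField.bijective_frobeniusAlgHom_pow (ZMod p) K).2 ψ
  refine ⟨i.1, ?_⟩
  have hfrob : ∀ j : ℕ, (FiniteField.frobeniusAlgHom (ZMod p) K ^ j) r = r ^ p ^ j := by
    intro j
    induction j with
    | zero => simp
    | succ j ih =>
      rw [pow_succ', AlgHom.mul_apply, ih]
      show (r ^ p ^ j) ^ Fintype.card (ZMod p) = _
      rw [ZMod.card, ← pow_mul, pow_succ]
  have h1 : r ^ p ^ i.1 = r ^ (h - 1) := by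
    rw [← hfrob, show FiniteField.frobeniusAlgHom (ZMod p) K ^ i.1 = ψ from hi]
    exact AdjoinRoot.liftAlgHom_root g _ _ hroot
  have hu : IsUnit r := ⟨⟨r, r ^ (h - 1),
    by rw [← pow_succ', Nat.sub_add_cancel hh, hrh],
    by rw [← pow_succ, Nat.sub_add_cancel hh, hrh]⟩, rfl⟩
  have h2 : p ^ i.1 + 1 ≡ h [MOD h] := by
    have e : r ^ (p ^ i.1 + 1) = r ^ h := by
      rw [pow_succ, h1, ← pow_succ, Nat.sub_add_cancel hh]
    obtain ⟨ru, hru⟩ := hu
    rw [← hru, ← Units.val_pow_eq_pow_val, ← Units.val_pow_eq_pow_val] at e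
    have := pow_eq_pow_iff_modEq.1 (Units.ext e)
    rwa [← orderOf_units, hru, hord] at this
  have h3 := (ZMod.natCast_eq_natCast_iff _ _ h).2 h2
  push_cast at h3
  rw [ZMod.natCast_self] at h3
  exact eq_neg_of_add_eq_zero_left h3

/-- The theorem: `h ∣ p ^ n + 1` or `h ∣ p ^ n - 1`, as congruences. -/
theorem pow_half_eq (T : Module.End (ZMod p) V) {h : ℕ} (hh : 0 < h) (hT : T ^ h = 1)
    (hfree : ∀ i, 0 < i → i < h → ∀ v, (T ^ i) v = v → v = 0)
    (B : LinearMap.BilinForm (ZMod p) V) (hB : ∀ u v, B (T u) (T v) = B u v)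
    (hnd : B.Nondegenerate) (halt : ∀ v, B v v = 0) {n : ℕ}
    (hn : finrank (ZMod p) V = 2 * n) : (p : ZMod h) ^ n = 1 ∨ (p : ZMod h) ^ n = -1 := by
  classical
  haveI : NeZero h := ⟨hh.ne'⟩
  have hV : ((p : ZMod h) ^ n) ^ 2 = 1 := by
    have := pow_finrank T hh hT hfree ⊤ fun v _ => trivial
    rwa [finrank_top, hn, mul_comm, pow_mul] at this
  rcases Nat.lt_or_ge h 3 with h3 | h3
  · left
    have hsmall : h = 1 ∨ h = 2 := by omega
    generalize (p : ZMod h) ^ n = x at hV
    rcases hsmall with rfl | rfl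
    · exact Subsingleton.elim _ _
    · revert x; decide
  have hone : (1 : ZMod h) ≠ -1 := fun e => by
    have h21 : ((2 : ℕ) : ZMod h) = 0 := by push_cast; linear_combination e
    rw [ZMod.natCast_eq_zero_iff] at h21
    have := Nat.le_of_dvd two_pos h21
    omega
  by_cases hm : ∃ i : ℕ, (p : ZMod h) ^ i = -1
  · have hpu : IsUnit (p : ZMod h) := by
      obtain ⟨i, hi⟩ := hm
      have hi0 : i ≠ 0 := by rintro rfl; exact hone (by simpa using hi)
      exact (isUnit_pow_iff hi0).1 (hi ▸ isUnit_one.neg)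
    obtain ⟨i, hi⟩ := hm
    obtain ⟨u, hu⟩ := hpu
    have h1 : (u ^ n) ^ 2 = 1 := Units.ext (by simpa [hu] using hV)
    have h2 : u ^ i = -1 := Units.ext (by simpa [hu] using hi)
    have hne : (1 : (ZMod h)ˣ) ≠ -1 := fun e => hone (by simpa using congrArg Units.val e)
    let A := Subgroup.zpowers u
    let s : Finset A := Finset.univ.filter fun a => a ^ 2 = 1
    have hs : s.card ≤ 2 := IsCyclic.card_pow_eq_one_le two_pos
    let a1 : A := ⟨u ^ n, Subgroup.pow_mem _ (Subgroup.mem_zpowers u) n⟩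
    let a2 : A := ⟨-1, h2 ▸ Subgroup.pow_mem _ (Subgroup.mem_zpowers u) i⟩
    have h12 : ({1, a1, a2} : Finset A) ⊆ s := by
      intro a ha
      simp only [Finset.mem_insert, Finset.mem_singleton] at ha
      rw [Finset.mem_filter]
      refine ⟨Finset.mem_univ _, Subtype.ext ?_⟩
      rcases ha with rfl | rfl | rfl
      · simp
      · simpa [a1] using h1
      · simp [a2]
    have hcard := (Finset.card_le_card h12).trans hs
    by_contra hcon
    rw [not_or] at hcon
    have e1 : (1 : A) ≠ a1 := fun e => hcon.1 (by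
      have := congrArg (fun a : A => ((a : (ZMod h)ˣ) : ZMod h)) e
      simpa [a1, hu] using this.symm)
    have e2 : (1 : A) ≠ a2 := fun e => hne (congrArg Subtype.val e)
    have e3 : a1 ≠ a2 := fun e => hcon.2 (by
      have := congrArg (fun a : A => ((a : (ZMod h)ˣ) : ZMod h)) e
      simpa [a1, a2, hu] using this)
    rw [Finset.card_eq_three.2 ⟨1, a1, a2, e1, e2, e3, rfl⟩] at hcard
    omega
  · left
    have hrefl : B.IsRefl := LinearMap.IsAlt.isRefl halt
    haveI : Finite V := Module.finite_of_finite (ZMod p)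
    haveI : Finite (Submodule (ZMod p) V) := Finite.of_injective _ SetLike.coe_injective
    let P : Submodule (ZMod p) V → Prop := fun U => (∀ v ∈ U, T v ∈ U) ∧ U ≤ B.orthogonal U
    obtain ⟨U, -, ⟨hUi, hUo⟩, hmax⟩ :=
      Finite.exists_le_maximal (p := P) (a := ⊥) ⟨fun v hv => by simp_all, bot_le⟩
    have hperpi : ∀ X : Submodule (ZMod p) V, (∀ v ∈ X, T v ∈ X) → ∀ v ∈ B.orthogonal X,
        T v ∈ B.orthogonal X := by
      intro X hX v hv x hx
      show B x (T v) = 0
      have hx' : (T ^ (h - 1)) x ∈ X := by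
        generalize h - 1 = j
        induction j with
        | zero => simpa using hx
        | succ j ih => rw [pow_succ', Module.End.mul_apply]; exact hX _ ih
      have e : T ((T ^ (h - 1)) x) = x := by
        rw [← Module.End.mul_apply, ← pow_succ', Nat.sub_add_cancel hh, hT, Module.End.one_apply]
      rw [← e, hB]
      exact hv _ hx'
    have heq : B.orthogonal U = U := by
      by_contra hne
      have hlt : U < B.orthogonal U := lt_of_le_of_ne hUo (Ne.symm hne)
      obtain ⟨W, -, ⟨hUW, hWo, hWi⟩, hWmin⟩ := Finite.exists_le_minimal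
        (p := fun W : Submodule (ZMod p) V => U < W ∧ W ≤ B.orthogonal U ∧ ∀ v ∈ W, T v ∈ W)
        (a := B.orthogonal U) ⟨hlt, le_rfl, hperpi U hUi⟩
      refine hm (exists_pow_eq_neg_one T hh hT hfree B hB U W hUW hUi hWi
        (fun u hu w hw => hWo hw u hu) (fun X hUX hXW hX => ?_) ?_)
      · rcases hUX.eq_or_lt with e | e
        · exact Or.inl e.symm
        · exact Or.inr (le_antisymm hXW (hWmin ⟨e, hXW.trans hWo, hX⟩ hXW))
      · intro w hw hperp
        by_contra hwU
        let X : Submodule (ZMod p) V := W ⊓ B.orthogonal W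
        have hUX : U ≤ X := le_inf hUW.le fun u hu x hx =>
          hrefl u x (hWo hx u hu)
        have hlt' : U < X := lt_of_le_not_ge hUX fun hle => hwU (hle ⟨hw, hperp⟩)
        have hXi : ∀ v ∈ X, T v ∈ X := fun v hv => ⟨hWi v hv.1, hperpi W hWi v hv.2⟩
        exact hlt'.not_ge (hmax ⟨hXi, fun v hv x hx => hv.2 x hx.1⟩ hUX)
    have hfr : finrank (ZMod p) U = n := by
      have := LinearMap.BilinForm.finrank_orthogonal hnd U
      rw [heq, hn] at this
      have := Submodule.finrank_le U
      omega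
    rw [← hfr]
    exact pow_finrank T hh hT hfree U hUi

end Cfsg.Agent.SympAct
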